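import Cfsg.Agent.Lib.Blocks.SecondMain
import Cfsg.Agent.Lib.BrauerPairs.Lift
import Cfsg.Agent.Lib.Char.Twist
import Cfsg.Agent.Lib.Char.Gallagher
import Cfsg.Agent.Lib.Clifford.CoprimeExtension

/-!
# The idempotent of the canonical extension

* central idempotents of `C[G]` are the `blockIdem`s, so `e x⁻¹ = conj (e x)`;
* `exists_extIdem`: for an invariant character `θ` of `N` and `N ≤ H` normal with coprime index, the
  idempotent `E` of the canonical extension: `ε E = E`, `|H| E n = |N| ε n` on `N`, and every `w ∈ H`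
  acts on `E` as an element of `C[N]`.
-/

set_option autoImplicit false
set_option linter.unusedSectionVars false
set_option linter.style.haveILetI false

namespace Cfsg.Agent.KiyotaOkuyama

open Cfsg MonoidAlgebra
open Agent.Blocks
open scoped Classical Cfsg.Agent.Blocks ComplexConjugate

universe u

variable {G : Type u} [Group G] [Finite G]

theorem eq_blockIdem {e : MonoidAlgebra ℂ G} (he : IsCentralElt e) (hee : e * e = e) :
    e = blockIdem {χ : IrrCharacter G | omega χ.1 e = 1} := by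
  refine central_ext he (isCentralElt_blockIdem _) fun χ => ?_
  rw [omega_blockIdem]
  split_ifs with h
  · exact h
  · have h2 : omega χ.1 e * (omega χ.1 e - 1) = 0 := by
      rw [mul_sub, mul_one, ← omega_mul χ he, hee, sub_self]
    exact (mul_eq_zero.1 h2).resolve_right fun h3 => h (sub_eq_zero.1 h3)

theorem coeff_inv {e : MonoidAlgebra ℂ G} (he : IsCentralElt e) (hee : e * e = e) (x : G) :
    e.coeff x⁻¹ = conj (e.coeff x) := by
  rw [eq_blockIdem he hee, coeff_blockIdem, coeff_blockIdem, blockCoeff_eq_sum, blockCoeff_eq_sum,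
    map_mul, map_inv₀, map_natCast, map_sum]
  congr 1
  refine Finset.sum_congr rfl fun χ _ => ?_
  rw [map_mul, ← Char.IsCharacter.conj_apply (Char.irr_isCharacter χ) x,
    Char.IsCharacter.conj_apply (Char.irr_isCharacter χ) (1 : G), inv_one]

theorem inclA_coe_eq {H : Subgroup G} {z : MonoidAlgebra ℂ H} {x : G} (hx : x ∈ H) :
    (inclA H z).coeff x = z.coeff ⟨x, hx⟩ :=
  coeff_inclA z ⟨x, hx⟩

/-- Characters detect the product with a central idempotent of a single character. -/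
theorem blockIdem_singleton_mul_eq_zero (χ : IrrCharacter G) {b : MonoidAlgebra ℂ G}
    (h : ∀ x : G, chiL χ.1 (b * MonoidAlgebra.single x 1) = 0) : blockIdem {χ} * b = 0 := by
  haveI := Fintype.ofFinite G
  refine alg_ext fun x => ?_
  rw [coeff_mul_eq_sum']
  have hc : ∀ g, (blockIdem {χ}).coeff g = (Nat.card G : ℂ)⁻¹ * (χ.1 1 * χ.1 g⁻¹) := fun g => by
    rw [coeff_blockIdem, blockCoeff_eq_sum, Finset.sum_eq_single_of_mem χ (by simp)
      fun η hη hne => absurd (by simpa using hη) hne, Char.IsCharacter.conj_apply (Char.irr_isCharacter χ)]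
  have h1 := h x⁻¹
  rw [chiL_mul_single] at h1
  calc ∑ y, (blockIdem {χ}).coeff (x * y⁻¹) * b.coeff y
      = ((Nat.card G : ℂ)⁻¹ * χ.1 1) * ∑ y, b.coeff y * χ.1 (y * x⁻¹) := by
        rw [Finset.mul_sum]
        refine Finset.sum_congr rfl fun y _ => ?_
        rw [hc, mul_inv_rev, inv_inv]
        ring
    _ = 0 := by rw [h1, mul_zero]
    _ = (0 : MonoidAlgebra ℂ G).coeff x := by simp

/-- An irreducible restriction makes the subgroup's algebra act as the whole group. -/
theorem exists_alg_of_irr_restrict {K : Subgroup G} (χ : IrrCharacter G) (θ : IrrCharacter K)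
    (h : ∀ n : K, χ.1 n = θ.1 n) (w : G) :
    ∃ a : MonoidAlgebra ℂ K, ∀ x : G,
      chiL χ.1 ((MonoidAlgebra.single w 1 - inclA K a) * MonoidAlgebra.single x 1) = 0 := by
  haveI := Fintype.ofFinite K
  obtain ⟨d, ρ, -, hρ⟩ := χ.2
  let σ : Representation ℂ K (Fin d → ℂ) := MonoidHom.comp ρ K.subtype
  have hσc : σ.character = θ.1 := funext fun n => by rw [← h n, ← hρ]; rfl
  haveI : σ.IsIrreducible := Char.isIrreducible_of_classInner_eq_one σ
    (by rw [hσc]; exact Char.classInner_irr_self θ.2)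
  have hd : (d : ℂ) ≠ 0 := by
    have := irr_one_ne_zero χ
    rwa [← hρ, Representation.char_one, Module.finrank_fin_fun] at this
  refine ⟨ofFun fun n : K => (d : ℂ) * (Nat.card K : ℂ)⁻¹ * χ.1 (w * (n : G)⁻¹), fun x => ?_⟩
  rw [sub_mul, chiL_sub, MonoidAlgebra.single_mul_single, chiL_single, one_mul, one_mul, sub_eq_zero]
  conv_rhs => rw [eq_sum_single (ofFun fun n : K => (d : ℂ) * (Nat.card K : ℂ)⁻¹ * χ.1 (w * (n : G)⁻¹)),
    map_sum, Finset.sum_mul, chiL_sum]
  simp only [inclA_single, MonoidAlgebra.single_mul_single, chiL_single, mul_one, coeff_ofFun]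
  have key := Char.sum_trace_mul_trace σ (ρ w) (ρ x)
  have hK : (Nat.card K : ℂ) ≠ 0 := Nat.cast_ne_zero.2 Nat.card_pos.ne'
  rw [← hρ]
  show LinearMap.trace ℂ _ (ρ (w * x)) = _
  rw [map_mul]
  have e : ∀ n : K, (d : ℂ) * (Nat.card K : ℂ)⁻¹ * ρ.character (w * (n : G)⁻¹) * ρ.character (n * x) =
      (d : ℂ) * (Nat.card K : ℂ)⁻¹ * (LinearMap.trace ℂ _ (ρ w * σ n⁻¹) *
        LinearMap.trace ℂ _ (σ n⁻¹⁻¹ * ρ x)) := by
    intro n
    rw [inv_inv, mul_assoc]
    simp only [Representation.character, map_mul]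
    rfl
  have e2 : ∑ n : K, LinearMap.trace ℂ _ (ρ w * σ n⁻¹) * LinearMap.trace ℂ _ (σ n⁻¹⁻¹ * ρ x) =
      ∑ n : K, LinearMap.trace ℂ _ (ρ w * σ n) * LinearMap.trace ℂ _ (σ n⁻¹ * ρ x) :=
    Equiv.sum_comp (Equiv.inv K) fun n : K => LinearMap.trace ℂ _ (ρ w * σ n) *
      LinearMap.trace ℂ _ (σ n⁻¹ * ρ x)
  rw [Finset.sum_congr rfl fun n _ => e n, ← Finset.mul_sum, e2, mul_comm (d : ℂ), mul_assoc, key,
    ← mul_assoc, inv_mul_cancel₀ hK, one_mul]

/-- The idempotent of the canonical extension to `H` of an invariant character of `N`. -/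
theorem exists_extIdem {N H : Subgroup G} [N.Normal] [H.Normal] (hNH : N ≤ H)
    (hco : Nat.Coprime (N.relIndex H) (Nat.card N)) (θ : IrrCharacter N)
    (hθ : ∀ (g : G) (n n' : N), (n' : G) = g * n * g⁻¹ → θ.1 n' = θ.1 n) :
    ∃ E : MonoidAlgebra ℂ G, IsCentralElt E ∧ E * E = E ∧ (∀ x ∉ H, E.coeff x = 0) ∧
      inclA N (blockIdem {θ}) * E = E ∧
      (∀ n ∈ N, (Nat.card H : ℂ) * E.coeff n = (Nat.card N : ℂ) * (inclA N (blockIdem {θ})).coeff n) ∧
      ∀ w ∈ H, ∃ a : MonoidAlgebra ℂ N, MonoidAlgebra.single w 1 * E = inclA N a * E := by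
  set N' : Subgroup H := N.subgroupOf H with hN'
  haveI : N'.Normal := Subgroup.Normal.subgroupOf ‹N.Normal› H
  set ι : N' ≃* N := Subgroup.subgroupOfEquivOfLe hNH
  set θ' : IrrCharacter N' := BrauerPairs.compIrr ι θ with hθ'
  have hθv : ∀ n : N', θ'.1 n = θ.1 ⟨((n : H) : G), n.2⟩ := fun n => rfl
  have hidx : N'.index = N.relIndex H := rfl
  have hcardN : Nat.card N' = Nat.card N := Nat.card_congr ι.toEquiv
  haveI := Fintype.ofFinite H
  haveI := Fintype.ofFinite N'
  obtain ⟨χ, ⟨hχN, hχd⟩, huniq⟩ := Clifford.existsUnique_extension_of_coprime_card (N := N') θ'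
    (fun h => funext fun n => by
      show θ'.1 (MulAut.conjNormal h n) = θ'.1 n
      rw [hθv, hθv]
      exact hθ h _ _ rfl)
    (by rw [hidx, hcardN]; exact hco)
  -- invariance
  have hinv : ∀ (g : G) (h h' : H), (h' : G) = g * h * g⁻¹ → χ.1 h' = χ.1 h := by
    intro g h h' hh
    set φ : H ≃* H := MulAut.conjNormal g
    have hφ : ∀ k : H, ((φ k : H) : G) = g * k * g⁻¹ := fun k => MulAut.conjNormal_apply g k
    set ψ : IrrCharacter H := BrauerPairs.compIrr φ χ
    have hψ : ψ = χ := huniq ψ ⟨fun n => ?_, fun k => ?_⟩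
    · rw [show h' = φ h from Subtype.ext (by rw [hφ, hh])]
      exact congrFun (congrArg Subtype.val hψ) h
    · have hmem : φ (n : H) ∈ N' := by
        show ((φ (n : H) : H) : G) ∈ N
        rw [hφ]
        exact ‹N.Normal›.conj_mem _ n.2 g
      show χ.1 (φ (n : H)) = θ'.1 n
      rw [show χ.1 (φ (n : H)) = θ'.1 ⟨φ (n : H), hmem⟩ from hχN ⟨φ (n : H), hmem⟩, hθv, hθv]
      exact hθ g _ _ (hφ n)
    · rw [Clifford.detChar_comp χ φ.toMonoidHom ψ (fun x => rfl) k]
      exact hχd _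
  set E := inclA H (blockIdem {χ}) with hE
  set ε' := inclA N' (blockIdem {θ'}) with hε'
  have hcoef : ∀ (n : N) , (blockIdem {θ'}).coeff ⟨⟨n, hNH n.2⟩, n.2⟩ = (blockIdem {θ}).coeff n := by
    intro n
    simp only [coeff_blockIdem, blockCoeff_eq_sum, hcardN]
    rw [Finset.sum_eq_single_of_mem θ' (by simp) fun η hη hne => absurd (by simpa using hη) hne,
      Finset.sum_eq_single_of_mem θ (by simp) fun η hη hne => absurd (by simpa using hη) hne]
    rfl
  have hincl : inclA H ε' = inclA N (blockIdem {θ}) := alg_ext fun x => by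
    by_cases hxN : x ∈ N
    · rw [inclA_coe_eq (H := H) (hNH hxN), hε', inclA_coe_eq (H := N') (x := ⟨x, hNH hxN⟩)
        (Subgroup.mem_subgroupOf.2 hxN), inclA_coe_eq (H := N) hxN]
      exact hcoef ⟨x, hxN⟩
    · rw [coeff_inclA_of_notMem _ hxN]
      by_cases hxH : x ∈ H
      · rw [inclA_coe_eq (H := H) hxH, hε', coeff_inclA_of_notMem _ fun h => hxN (Subgroup.mem_subgroupOf.1 h)]
      · rw [coeff_inclA_of_notMem _ hxH]
  refine ⟨E, fun x g => ?_, by rw [hE, ← map_mul, blockIdem_mul_self], fun x hx => coeff_inclA_of_notMem _ hx,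
    ?_, fun n hn => ?_, fun w hw => ?_⟩
  · by_cases hx : x ∈ H
    · have hx' : g * x * g⁻¹ ∈ H := ‹H.Normal›.conj_mem x hx g
      rw [hE, inclA_coe_eq hx', inclA_coe_eq hx, coeff_blockIdem, coeff_blockIdem, blockCoeff_eq_sum,
        blockCoeff_eq_sum]
      congr 1
      refine Finset.sum_congr rfl fun η hη => ?_
      obtain rfl : η = χ := by simpa using hη
      rw [hinv g ⟨x, hx⟩ ⟨_, hx'⟩ rfl]
    · rw [hE, coeff_inclA_of_notMem _ hx, coeff_inclA_of_notMem]
      exact fun h => hx (by simpa [mul_assoc] using ‹H.Normal›.conj_mem _ h g⁻¹)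
  · rw [← hincl, hE, ← map_mul]
    congr 1
    have hεc : IsCentralElt ε' := fun y z => by
      by_cases hy : y ∈ N'
      · have hy' : z * y * z⁻¹ ∈ N' := ‹N'.Normal›.conj_mem y hy z
        rw [hε', inclA_coe_eq hy', inclA_coe_eq hy, coeff_blockIdem, coeff_blockIdem, blockCoeff_eq_sum,
          blockCoeff_eq_sum]
        congr 1
        refine Finset.sum_congr rfl fun η hη => ?_
        obtain rfl : η = θ' := by simpa using hη
        congr 2
        rw [hθv, hθv]
        exact hθ z _ _ rfl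
      · rw [hε', coeff_inclA_of_notMem _ hy, coeff_inclA_of_notMem]
        exact fun h => hy (by simpa [mul_assoc] using ‹N'.Normal›.conj_mem _ h z⁻¹)
    refine central_ext (IsCentralElt.mul hεc (isCentralElt_blockIdem _)) (isCentralElt_blockIdem _)
      fun η => ?_
    rw [omega_mul η hεc, omega_blockIdem]
    split_ifs with hη
    · obtain rfl : η = χ := by simpa using hη
      rw [mul_one, omega, hε', chiL_inclA, show (fun n : N' => η.1 (n : H)) = θ'.1 from funext hχN,
        chiL_blockIdem, if_pos (Set.mem_singleton _)]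
      have h1 := hχN 1
      rw [OneMemClass.coe_one] at h1
      rw [h1, div_self (irr_one_ne_zero θ')]
    · rw [mul_zero]
  · rw [hE, inclA_coe_eq (hNH hn), inclA_coe_eq hn, coeff_blockIdem, coeff_blockIdem, blockCoeff_eq_sum,
      blockCoeff_eq_sum, ← mul_assoc, ← mul_assoc,
      mul_inv_cancel₀ (Nat.cast_ne_zero.2 Nat.card_pos.ne' : (Nat.card H : ℂ) ≠ 0),
      mul_inv_cancel₀ (Nat.cast_ne_zero.2 Nat.card_pos.ne' : (Nat.card N : ℂ) ≠ 0), one_mul, one_mul,
      Finset.sum_eq_single_of_mem χ (by simp) fun η hη hne => absurd (by simpa using hη) hne,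
      Finset.sum_eq_single_of_mem θ (by simp) fun η hη hne => absurd (by simpa using hη) hne]
    rw [show χ.1 (⟨n, hNH hn⟩ : H) = θ.1 ⟨n, hn⟩ from hχN ⟨⟨n, hNH hn⟩, hn⟩,
      show χ.1 1 = θ.1 1 from hχN 1]
  · obtain ⟨a, ha⟩ := exists_alg_of_irr_restrict (K := N') χ θ' hχN ⟨w, hw⟩
    refine ⟨ofFun fun n : N => a.coeff ⟨⟨n, hNH n.2⟩, n.2⟩, ?_⟩
    have h0 := blockIdem_singleton_mul_eq_zero χ ha
    have hc := (IsCentralElt.commute (isCentralElt_blockIdem {χ})
      (MonoidAlgebra.single (⟨w, hw⟩ : H) 1 - inclA N' a)).eq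
    rw [h0, sub_mul, eq_comm, sub_eq_zero] at hc
    have h2 := congrArg (inclA H) hc
    rw [map_mul, map_mul, inclA_single] at h2
    rw [hE]
    refine h2.trans ?_
    congr 1
    refine alg_ext fun x => ?_
    by_cases hxN : x ∈ N
    · rw [inclA_coe_eq (H := H) (hNH hxN), inclA_coe_eq (H := N') (x := ⟨x, hNH hxN⟩)
        (Subgroup.mem_subgroupOf.2 hxN), inclA_coe_eq (H := N) hxN, coeff_ofFun]
    · rw [coeff_inclA_of_notMem (H := N) _ hxN]
      by_cases hxH : x ∈ H
      · rw [inclA_coe_eq (H := H) hxH, coeff_inclA_of_notMem _ fun h => hxN (Subgroup.mem_subgroupOf.1 h)]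
      · rw [coeff_inclA_of_notMem _ hxH]

end Cfsg.Agent.KiyotaOkuyama
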