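import Cfsg.Agent.Lib.KiyotaOkuyama.Extension
import Cfsg.Agent.Lib.PCore.HallHigman
import Cfsg.Agent.Lib.PCore.PSolvable
import Cfsg.Agent.Lib.Coprime.Basic
import Cfsg.Agent.Lib.Blocks.ThirdMain

/-!
# Kiyota–Okuyama: idempotents vanishing at `p`-singular elements are local

For `p`-solvable `G`, a central idempotent of `C[G]` with zero coefficients at the `p`-singular
elements has local integral coefficients.  Induction through the stabilisers of the characters of
`N = O_{p'}(G)`; for an invariant one, compare the norms of the components on cosets of `N` before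
and after multiplying with the idempotent of the canonical extension to `O_{p',p}(G)`.
-/

set_option autoImplicit false
set_option linter.unusedSectionVars false
set_option linter.style.haveILetI false

namespace Cfsg.Agent.KiyotaOkuyama

open Cfsg MonoidAlgebra
open Agent.Blocks
open scoped Classical Cfsg.Agent.Blocks ComplexConjugate Pointwise

universe u

variable {G : Type u} [Group G] [Finite G] {p : ℕ}

/-- Zero coefficients at the singular elements. -/
def RegSupp (p : ℕ) (z : MonoidAlgebra ℂ G) : Prop := ∀ x, z.coeff x ≠ 0 → IsPRegular p x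

theorem exists_of_coeff_mul_ne {z w : MonoidAlgebra ℂ G} {x : G} (h : (z * w).coeff x ≠ 0) :
    ∃ y, z.coeff (x * y⁻¹) ≠ 0 ∧ w.coeff y ≠ 0 := by
  haveI := Fintype.ofFinite G
  rw [coeff_mul_eq_sum'] at h
  obtain ⟨y, -, hy⟩ := Finset.exists_ne_zero_of_sum_ne_zero h
  exact ⟨y, left_ne_zero_of_mul hy, right_ne_zero_of_mul hy⟩

section Normal

variable {N : Subgroup G} [N.Normal]

theorem isPRegular_mk [Fact p.Prime] {x : G} (hx : IsPRegular p x) : IsPRegular p (x : G ⧸ N) :=
  fun h => hx (h.trans (orderOf_map_dvd (QuotientGroup.mk' N) x))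

theorem isPRegular_of_mk [hp : Fact p.Prime] (hN : (Nat.card N).Coprime p) {x : G}
    (hx : IsPRegular p (x : G ⧸ N)) : IsPRegular p x := by
  intro h
  have h1 : x ^ orderOf (x : G ⧸ N) ∈ N :=
    (QuotientGroup.eq_one_iff _).1 (by rw [QuotientGroup.mk_pow, pow_orderOf_eq_one])
  have h2 : orderOf x ∣ orderOf (x : G ⧸ N) * Nat.card N := by
    refine orderOf_dvd_of_pow_eq_one ?_
    rw [pow_mul]
    exact congrArg Subtype.val (pow_card_eq_one' (x := (⟨_, h1⟩ : N)))
  rcases (hp.out.dvd_mul).1 (h.trans h2) with h3 | h3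
  · exact hx h3
  · exact hp.out.coprime_iff_not_dvd.1 hN.symm h3

/-- Multiplying by an element of `C[N]` keeps the regular support. -/
theorem RegSupp.mul_inclA [Fact p.Prime] (hN : (Nat.card N).Coprime p) {z : MonoidAlgebra ℂ G}
    (hz : RegSupp p z) (a : MonoidAlgebra ℂ N) : RegSupp p (z * inclA N a) := by
  intro x hx
  obtain ⟨y, h1, h2⟩ := exists_of_coeff_mul_ne hx
  have hy : y ∈ N := by_contra fun hy => h2 (coeff_inclA_of_notMem _ hy)
  refine isPRegular_of_mk (N := N) hN ?_
  have := isPRegular_mk (N := N) (hz _ h1)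
  rwa [QuotientGroup.mk_mul, (QuotientGroup.eq_one_iff y⁻¹).2 (inv_mem hy), mul_one] at this

/-- The component on a coset. -/
noncomputable def comp (c : G ⧸ N) (z : MonoidAlgebra ℂ G) : MonoidAlgebra ℂ G :=
  ofFun fun x => if (x : G ⧸ N) = c then z.coeff x else 0

theorem coeff_comp (c : G ⧸ N) (z : MonoidAlgebra ℂ G) (x : G) :
    (comp c z).coeff x = if (x : G ⧸ N) = c then z.coeff x else 0 := coeff_ofFun _ _

theorem mk_of_comp_ne {c : G ⧸ N} {z : MonoidAlgebra ℂ G} {x : G}
    (h : (comp c z).coeff x ≠ 0) : (x : G ⧸ N) = c ∧ z.coeff x ≠ 0 := by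
  rw [coeff_comp] at h
  split_ifs at h with hc
  · exact ⟨hc, h⟩
  · exact absurd rfl h

theorem sum_comp [Fintype (G ⧸ N)] (z : MonoidAlgebra ℂ G) : ∑ c : G ⧸ N, comp c z = z :=
  alg_ext fun x => by simp [coeff_comp, MonoidAlgebra.coeff_sum]

theorem comp_mul_inclA (c : G ⧸ N) (z : MonoidAlgebra ℂ G) (a : MonoidAlgebra ℂ N) :
    comp c z * inclA N a = comp c (z * inclA N a) := by
  haveI := Fintype.ofFinite G
  refine alg_ext fun x => ?_
  rw [coeff_comp, coeff_mul_eq_sum', coeff_mul_eq_sum']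
  have : ∀ y, (comp c z).coeff (x * y⁻¹) * (inclA N a).coeff y =
      if (x : G ⧸ N) = c then z.coeff (x * y⁻¹) * (inclA N a).coeff y else 0 := by
    intro y
    by_cases hy : y ∈ N
    · rw [coeff_comp, QuotientGroup.mk_mul, (QuotientGroup.eq_one_iff y⁻¹).2 (inv_mem hy), mul_one]
      split_ifs <;> simp
    · simp [coeff_inclA_of_notMem _ hy]
  rw [Finset.sum_congr rfl fun y _ => this y]
  split_ifs <;> simp

theorem single_mul_comp_mul_single (c : G ⧸ N) {z : MonoidAlgebra ℂ G} (hz : IsCentralElt z) (g : G) :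
    MonoidAlgebra.single g 1 * comp c z * MonoidAlgebra.single g⁻¹ 1 =
      comp ((g : G ⧸ N) * c * (g : G ⧸ N)⁻¹) z := by
  refine alg_ext fun x => ?_
  rw [coeff_mul_single', coeff_single_mul', coeff_comp, coeff_comp, one_mul, mul_one, inv_inv]
  have h1 : z.coeff (g⁻¹ * (x * g)) = z.coeff x := by
    have := hz x g⁻¹
    simpa [mul_assoc] using this
  rw [h1]
  refine if_congr ?_ rfl rfl
  rw [QuotientGroup.mk_mul, QuotientGroup.mk_inv, QuotientGroup.mk_mul]
  constructor <;> intro h
  · rw [← h]; group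
  · rw [h]; group

theorem commute_inclA_comp (c : G ⧸ N) {z : MonoidAlgebra ℂ G} (hz : IsCentralElt z)
    (a : MonoidAlgebra ℂ N) : Commute (inclA N a) (comp c z) := by
  haveI := Fintype.ofFinite N
  rw [eq_sum_single a, map_sum]
  refine Commute.sum_left _ _ _ fun n _ => ?_
  rw [inclA_single]
  have h1 : MonoidAlgebra.single (n : G) (a.coeff n) = a.coeff n • MonoidAlgebra.single (n : G) 1 := by
    rw [MonoidAlgebra.smul_single', mul_one]
  rw [h1]
  refine Commute.smul_left ?_ _
  have h2 := single_mul_comp_mul_single c hz (n : G)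
  rw [(QuotientGroup.eq_one_iff (n : G)).2 n.2, one_mul, inv_one, mul_one] at h2
  show _ = _
  conv_rhs => rw [← h2]
  rw [mul_assoc _ (MonoidAlgebra.single (n : G)⁻¹ 1), MonoidAlgebra.single_mul_single, inv_mul_cancel,
    mul_one, ← MonoidAlgebra.one_def, mul_one]

end Normal

theorem eq_one_of_isPRegular_of_mem [hp : Fact p.Prime] {P : Subgroup G} (hP : IsPGroup p P) {x : G}
    (hx : IsPRegular p x) (hxP : x ∈ P) : x = 1 := by
  obtain ⟨k, hk⟩ := hP ⟨x, hxP⟩
  have h1 : orderOf x ∣ p ^ k :=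
    orderOf_dvd_of_pow_eq_one (by simpa using congrArg Subtype.val hk)
  obtain ⟨i, -, hi⟩ := (Nat.dvd_prime_pow hp.out).1 h1
  rcases Nat.eq_zero_or_pos i with rfl | h0
  · exact orderOf_eq_one_iff.1 (by simpa using hi)
  · exact absurd (hi ▸ dvd_pow_self p h0.ne') hx

/-- Regular elements of a coset of a normal `p`-subgroup are conjugate under it. -/
theorem exists_conj_eq_of_regular [hp : Fact p.Prime] {P : Subgroup G} [P.Normal]
    (hP : IsPGroup p P) {a b : G} (ha : IsPRegular p a) (hb : IsPRegular p b) (hab : a⁻¹ * b ∈ P) :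
    ∃ g ∈ P, g * a * g⁻¹ = b := by
  have hinf : ∀ x : G, IsPRegular p x → ∀ y, y ∈ Subgroup.zpowers x → y ∈ P → y = 1 := by
    intro x hx y hy hyP
    exact eq_one_of_isPRegular_of_mem hP
      (fun h => hx (h.trans (orderOf_dvd_of_mem_zpowers hy))) hyP
  have hord : ∀ x y : G, IsPRegular p x → x⁻¹ * y ∈ P → orderOf x ∣ orderOf y := by
    intro x y hx hxy
    refine orderOf_dvd_of_pow_eq_one (hinf x hx _ (pow_mem (Subgroup.mem_zpowers x) _) ?_)
    rw [← QuotientGroup.eq_one_iff, QuotientGroup.mk_pow, (QuotientGroup.eq (s := P)).2 hxy,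
      ← QuotientGroup.mk_pow, pow_orderOf_eq_one, QuotientGroup.mk_one]
  have hba : b⁻¹ * a ∈ P := by simpa [mul_inv_rev] using inv_mem hab
  have hab' : orderOf a = orderOf b := Nat.dvd_antisymm (hord a b ha hab) (hord b a hb hba)
  obtain ⟨g, hg, hgK⟩ := Coprime.exists_conj_eq_of_le_sup (N := P) (H := Subgroup.zpowers a)
    (K := Subgroup.zpowers b) (by rw [Subgroup.normalizer_eq_top]; exact le_top)
    (by
      rw [Subgroup.zpowers_le]
      have h1 : b = a * (a⁻¹ * b) := (mul_inv_cancel_left a b).symm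
      rw [h1]
      exact Subgroup.mul_mem_sup (Subgroup.mem_zpowers a) hab)
    (by rw [Nat.card_zpowers, Nat.card_zpowers, hab'])
    (by
      obtain ⟨k, hk⟩ := hP.exists_card_eq
      rw [Nat.card_zpowers, hk]
      exact Nat.Coprime.pow_right k (hp.out.coprime_iff_not_dvd.2 ha).symm)
    (Or.inr inferInstance)
  refine ⟨g, hg, ?_⟩
  have h1 : g * a * g⁻¹ ∈ Subgroup.zpowers b := by
    rw [← hgK, Coprime.mem_conj_smul_iff]
    simp [mul_assoc]
  have h2 : g * a * g⁻¹ * b⁻¹ ∈ P := by
    rw [← QuotientGroup.eq_one_iff, QuotientGroup.mk_mul, QuotientGroup.mk_mul, QuotientGroup.mk_mul,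
      QuotientGroup.mk_inv, QuotientGroup.mk_inv, (QuotientGroup.eq_one_iff g).2 hg,
      (QuotientGroup.eq (s := P)).2 hab]
    group
  exact mul_inv_eq_one.1 (hinf b hb _ (mul_mem h1 (inv_mem (Subgroup.mem_zpowers b))) h2)

/-- An invariant constituent: the idempotent lives on `N = O_{p'}(G)`. -/
theorem supp_le_of_stable [hp : Fact p.Prime] (hs : IsPSolvable p G) {N : Subgroup G} [N.Normal]
    (hNp : (Nat.card N).Coprime p) (hbot : pPrimeCore p (G ⧸ N) = ⊥) (θ : IrrCharacter N)
    (hθ : ∀ (g : G) (n n' : N), (n' : G) = g * n * g⁻¹ → θ.1 n' = θ.1 n)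
    {f : MonoidAlgebra ℂ G} (hf : IsCentralElt f) (hff : f * f = f) (hreg : RegSupp p f)
    (hfε : f * inclA N (blockIdem {θ}) = f) :
    ∀ x ∉ N, f.coeff x = 0 := by
  haveI := Fintype.ofFinite G
  haveI := Fintype.ofFinite (G ⧸ N)
  set P : Subgroup (G ⧸ N) := pCore p (G ⧸ N) with hPdef
  have hP : IsPGroup p P := PCore.isPGroup_pCore
  set H : Subgroup G := P.comap (QuotientGroup.mk' N) with hHdef
  have hmemH : ∀ x : G, x ∈ H ↔ (x : G ⧸ N) ∈ P := fun x => Iff.rfl
  have hNH : N ≤ H := fun x hx => by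
    rw [hmemH, (QuotientGroup.eq_one_iff x).2 hx]
    exact one_mem P
  have hrel : N.relIndex H = Nat.card P := by
    conv_lhs => rw [← QuotientGroup.ker_mk' N, ← MonoidHom.comap_bot]
    rw [Subgroup.relIndex_comap, hHdef, Subgroup.map_comap_eq_self_of_surjective
      (QuotientGroup.mk'_surjective N), Subgroup.relIndex_bot_left]
  have hco : (N.relIndex H).Coprime (Nat.card N) := by
    obtain ⟨k, hk⟩ := hP.exists_card_eq
    rw [hrel, hk]
    exact Nat.Coprime.pow_left k hNp.symm
  obtain ⟨E, hEc, -, hEs, -, hEN, hact⟩ := exists_extIdem hNH hco θ hθ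
  set ε := inclA N (blockIdem {θ}) with hεdef
  -- comparison at `1`
  have L1 : ∀ z : MonoidAlgebra ℂ G, (∀ y, z.coeff y ≠ 0 → y ∈ H → y ∈ N) →
      (Nat.card H : ℂ) * (z * E).coeff 1 = (Nat.card N : ℂ) * (z * ε).coeff 1 := by
    intro z hz
    rw [coeff_mul_eq_sum', coeff_mul_eq_sum', Finset.mul_sum, Finset.mul_sum]
    refine Finset.sum_congr rfl fun y _ => ?_
    rw [one_mul]
    by_cases hy : y ∈ N
    · rw [mul_left_comm, hEN y hy, mul_left_comm]
    · have h0 : ε.coeff y = 0 := coeff_inclA_of_notMem _ hy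
      rw [h0, mul_zero, mul_zero]
      by_cases hyH : y ∈ H
      · have : z.coeff y⁻¹ = 0 :=
          by_contra fun h => hy (inv_mem_iff.1 (hz _ h (inv_mem hyH)))
        rw [this, zero_mul, mul_zero]
      · rw [hEs y hyH, mul_zero, mul_zero]
  have hregN : ∀ y : G, IsPRegular p y → y ∈ H → y ∈ N := fun y hy hyH =>
    (QuotientGroup.eq_one_iff y).1 (eq_one_of_isPRegular_of_mem hP (isPRegular_mk hy) hyH)
  have hsq : ∀ y, f.coeff y⁻¹ * f.coeff y = (Complex.normSq (f.coeff y) : ℂ) := fun y => by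
    rw [coeff_inv hf hff, Complex.normSq_eq_conj_mul_self]
  set s : G ⧸ N → ℝ := fun c =>
    ∑ y : G, if (y : G ⧸ N)⁻¹ = c then Complex.normSq (f.coeff y) else 0 with hsdef
  have hs0 : ∀ c, 0 ≤ s c := fun c => Finset.sum_nonneg fun y _ => by
    split_ifs
    · exact Complex.normSq_nonneg _
    · exact le_rfl
  have hsing : ∀ c : G ⧸ N, ¬ IsPRegular p c → comp c f = 0 := fun c hc => alg_ext fun x => by
    rw [MonoidAlgebra.coeff_zero, Finsupp.zero_apply]
    by_contra h
    obtain ⟨h1, h2⟩ := mk_of_comp_ne h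
    exact hc (h1 ▸ isPRegular_mk (hreg x h2))
  have hs_sing : ∀ c : G ⧸ N, ¬ IsPRegular p c → s c = 0 := fun c hc => by
    refine Finset.sum_eq_zero fun y _ => ?_
    split_ifs with h
    · by_contra h0
      have h1 := isPRegular_mk (N := N) (hreg y fun h' => h0 (by rw [h', map_zero]))
      exact hc (h ▸ fun h2 => h1 (by rwa [orderOf_inv] at h2))
    · rfl
  have hcc : ∀ c : G ⧸ N, (comp c f * comp c⁻¹ f).coeff 1 = (s c : ℂ) := by
    intro c
    rw [coeff_mul_eq_sum', hsdef, Complex.ofReal_sum]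
    refine Finset.sum_congr rfl fun y _ => ?_
    rw [coeff_comp, coeff_comp, one_mul, QuotientGroup.mk_inv]
    by_cases h : (y : G ⧸ N)⁻¹ = c
    · have h' : (y : G ⧸ N) = c⁻¹ := by rw [← h, inv_inv]
      rw [if_pos h, if_pos h', if_pos h, hsq]
    · rw [if_neg h, if_neg h, zero_mul, Complex.ofReal_zero]
  -- the value of each product of components
  have hterm : ∀ c d : G ⧸ N, (Nat.card H : ℂ) * (comp c f * comp d f * E).coeff 1 =
      if IsPRegular p d ∧ c * d ∈ P then (Nat.card N : ℂ) * (s c : ℂ) else 0 := by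
    intro c d
    by_cases hd : IsPRegular p d
    swap
    · rw [if_neg fun h => hd h.1, hsing d hd]
      simp
    by_cases hcd : c * d ∈ P
    swap
    · rw [if_neg fun h => hcd h.2]
      by_contra h
      obtain ⟨y, h1, h2⟩ := exists_of_coeff_mul_ne (right_ne_zero_of_mul h)
      obtain ⟨z, h3, h4⟩ := exists_of_coeff_mul_ne h1
      have hyH : y ∈ H := by_contra fun hy => h2 (hEs y hy)
      apply hcd
      rw [← (mk_of_comp_ne h3).1, ← (mk_of_comp_ne h4).1, ← QuotientGroup.mk_mul, inv_mul_cancel_right,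
        one_mul, QuotientGroup.mk_inv]
      exact inv_mem hyH
    rw [if_pos ⟨hd, hcd⟩]
    by_cases hc : IsPRegular p c
    swap
    · rw [hsing c hc, hs_sing c hc]
      simp
    obtain ⟨v, hv, hvc⟩ := exists_conj_eq_of_regular hP (a := c⁻¹) (b := d)
      (fun h => hc (by rwa [orderOf_inv] at h)) hd (by rwa [inv_inv])
    obtain ⟨w, rfl⟩ := QuotientGroup.mk_surjective v
    have hw : w ∈ H := hv
    obtain ⟨a, ha⟩ := hact w⁻¹ (inv_mem hw)
    have hF : comp d f =
        MonoidAlgebra.single w 1 * comp c⁻¹ f * MonoidAlgebra.single w⁻¹ 1 := by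
      rw [single_mul_comp_mul_single _ hf, hvc]
    have hE : ∀ z, E * z = z * E := fun z => (IsCentralElt.commute hEc z).eq
    have key : comp d f * E = comp c⁻¹ f * E := by
      rw [hF, mul_assoc, ha, ← mul_assoc, mul_assoc (MonoidAlgebra.single w (1 : ℂ)),
        ← (commute_inclA_comp c⁻¹ hf a).eq, mul_assoc, mul_assoc (inclA N a), ← hE,
        ← mul_assoc (inclA N a), ← ha, ← mul_assoc, ← mul_assoc, MonoidAlgebra.single_mul_single,
        mul_inv_cancel, one_mul, ← MonoidAlgebra.one_def, one_mul, hE]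
    rw [mul_assoc (comp c f), key, ← mul_assoc, L1 _ ?_, mul_assoc, comp_mul_inclA, hfε, hcc]
    intro y hy hyH
    obtain ⟨z, h1, h2⟩ := exists_of_coeff_mul_ne hy
    rw [← QuotientGroup.eq_one_iff, ← inv_mul_cancel_right y z, QuotientGroup.mk_mul,
      (mk_of_comp_ne h1).1, (mk_of_comp_ne h2).1, mul_inv_cancel]
  -- compare
  have hf1 : f.coeff 1 = ((∑ c, s c : ℝ) : ℂ) := by
    conv_lhs => rw [← hff]
    rw [coeff_mul_eq_sum', hsdef, Finset.sum_comm, Complex.ofReal_sum]
    refine Finset.sum_congr rfl fun y _ => ?_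
    rw [one_mul, hsq, Finset.sum_ite_eq, if_pos (Finset.mem_univ _)]
  set m : G ⧸ N → Finset (G ⧸ N) := fun c =>
    Finset.univ.filter fun d => IsPRegular p d ∧ c * d ∈ P with hmdef
  have hleft : (Nat.card H : ℂ) * (f * E).coeff 1 = (Nat.card N : ℂ) * f.coeff 1 := by
    rw [L1 f fun y hy hyH => hregN y (hreg y hy) hyH, hfε]
  have hright : (Nat.card H : ℂ) * (f * E).coeff 1 =
      (Nat.card N : ℂ) * ((∑ c, ((m c).card : ℝ) * s c : ℝ) : ℂ) := by
    conv_lhs => rw [← hff]
    conv_lhs => rw [← sum_comp (N := N) f, Finset.sum_mul, Finset.sum_mul, MonoidAlgebra.coeff_sum,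
      Finsupp.finset_sum_apply, Finset.mul_sum]
    rw [Complex.ofReal_sum, Finset.mul_sum]
    refine Finset.sum_congr rfl fun c _ => ?_
    rw [Finset.mul_sum, Finset.sum_mul, MonoidAlgebra.coeff_sum, Finsupp.finset_sum_apply,
      Finset.mul_sum, Finset.sum_congr rfl fun d _ => hterm c d, ← Finset.sum_filter,
      Finset.sum_const, nsmul_eq_mul]
    push_cast
    ring
  have hsum : ∑ c, ((m c).card : ℝ) * s c = ∑ c, s c := by
    have := hright.symm.trans hleft
    rw [hf1] at this
    exact_mod_cast mul_left_cancel₀ (Nat.cast_ne_zero.2 Nat.card_pos.ne' : (Nat.card N : ℂ) ≠ 0) this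
  have hm : ∀ c : G ⧸ N, IsPRegular p c → c⁻¹ ∈ m c := fun c hc =>
    Finset.mem_filter.2 ⟨Finset.mem_univ _, fun h => hc (by rwa [orderOf_inv] at h),
      by rw [mul_inv_cancel]; exact one_mem P⟩
  have hge : ∀ c, 0 ≤ (((m c).card : ℝ) - 1) * s c := fun c => by
    by_cases hc : IsPRegular p c
    · refine mul_nonneg (sub_nonneg.2 ?_) (hs0 c)
      exact_mod_cast Finset.card_pos.2 ⟨_, hm c hc⟩
    · rw [hs_sing c hc, mul_zero]
  have hzero : ∀ c, (((m c).card : ℝ) - 1) * s c = 0 := fun c =>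
    (Finset.sum_eq_zero_iff_of_nonneg fun c _ => hge c).1
      (by simp only [sub_mul, one_mul, Finset.sum_sub_distrib, hsum, sub_self]) c (Finset.mem_univ _)
  intro x hx
  by_contra hfx
  set c : G ⧸ N := (x : G ⧸ N)⁻¹ with hcdef
  have hxreg : IsPRegular p (x : G ⧸ N) := isPRegular_mk (hreg x hfx)
  have hcreg : IsPRegular p c := fun h => hxreg (by rwa [hcdef, orderOf_inv] at h)
  have hpos : 0 < s c := by
    refine lt_of_lt_of_le (Complex.normSq_pos.2 hfx) ?_
    refine le_trans (le_of_eq ?_) (Finset.single_le_sum (f := fun y : G =>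
      if (y : G ⧸ N)⁻¹ = c then Complex.normSq (f.coeff y) else 0) (fun y _ => ?_) (Finset.mem_univ x))
    · rw [if_pos rfl]
    · split_ifs
      · exact Complex.normSq_nonneg _
      · exact le_rfl
  have hcard : (m c).card = 1 := by
    have h1 : ((m c).card : ℝ) = 1 :=
      sub_eq_zero.1 ((mul_eq_zero.1 (hzero c)).resolve_right hpos.ne')
    exact_mod_cast h1
  have hcent : (x : G ⧸ N) ∈ Subgroup.centralizer (P : Set (G ⧸ N)) := by
    rw [Subgroup.mem_centralizer_iff]
    intro v hv
    have hd : v * c⁻¹ * v⁻¹ ∈ m c := by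
      refine Finset.mem_filter.2 ⟨Finset.mem_univ _, ?_, ?_⟩
      · intro h
        apply hcreg
        rwa [← MulAut.conj_apply, MulEquiv.orderOf_eq, orderOf_inv] at h
      · have : c * (v * c⁻¹ * v⁻¹) = (c * v * c⁻¹) * v⁻¹ := by group
        rw [this]
        exact mul_mem (Subgroup.Normal.conj_mem inferInstance v hv c) (inv_mem hv)
    have h2 := Finset.card_le_one.1 hcard.le _ hd _ (hm c hcreg)
    rw [hcdef, inv_inv, mul_inv_eq_iff_eq_mul] at h2
    exact h2
  have hxP : (x : G ⧸ N) ∈ P := PCore.centralizer_pCore_le (PCore.isPSolvable_quotient hs N)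
    hbot hcent
  exact hx ((QuotientGroup.eq_one_iff x).1 (eq_one_of_isPRegular_of_mem hP hxreg hxP))

theorem mul_coeff_one_comm (z w : MonoidAlgebra ℂ G) : (z * w).coeff 1 = (w * z).coeff 1 := by
  haveI := Fintype.ofFinite G
  rw [coeff_mul_eq_sum, coeff_mul_eq_sum']
  exact Finset.sum_congr rfl fun y _ => by simp [mul_comm]

theorem blockIdem_empty : blockIdem (∅ : Set (IrrCharacter G)) = 0 :=
  alg_ext fun g => by simp [coeff_blockIdem, blockCoeff]

theorem sum_blockIdem_singleton [Fintype (IrrCharacter G)] :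
    ∑ θ, blockIdem ({θ} : Set (IrrCharacter G)) = 1 := by
  rw [← blockIdem_univ]
  refine alg_ext fun g => ?_
  rw [MonoidAlgebra.coeff_sum, Finsupp.finset_sum_apply]
  simp [coeff_blockIdem, blockCoeff, Finset.mul_sum, finsum_eq_sum_of_fintype, finsum_eq_if]

theorem blockIdem_singleton_ne_zero (θ : IrrCharacter G) : blockIdem ({θ} : Set (IrrCharacter G)) ≠ 0 := fun h => by
  have := omega_blockIdem θ ({θ} : Set (IrrCharacter G))
  rw [h, omega_zero, if_pos (Set.mem_singleton θ)] at this
  exact zero_ne_one this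

theorem inclA_injective (T : Subgroup G) : Function.Injective (inclA T) := fun a b h =>
  alg_ext fun t => by rw [← coeff_inclA a t, ← coeff_inclA b t, h]

/-- An idempotent on `T` commuting with `T` is a central idempotent of `C[T]`. -/
theorem exists_restrict {T : Subgroup G} {f : MonoidAlgebra ℂ G} (hff : f * f = f)
    (hsupp : ∀ x ∉ T, f.coeff x = 0) (hc : ∀ t ∈ T, Commute (MonoidAlgebra.single t 1) f) :
    ∃ f₀ : MonoidAlgebra ℂ T, inclA T f₀ = f ∧ IsCentralElt f₀ ∧ f₀ * f₀ = f₀ ∧
      ∀ t : T, f₀.coeff t = f.coeff (t : G) := by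
  refine ⟨ofFun fun t : T => f.coeff t, ?_, ?_, ?_, fun t => coeff_ofFun _ _⟩
  · refine alg_ext fun x => ?_
    by_cases hx : x ∈ T
    · rw [inclA_coe_eq hx, coeff_ofFun]
    · rw [coeff_inclA_of_notMem _ hx, hsupp x hx]
  · intro x t
    rw [coeff_ofFun, coeff_ofFun, Subgroup.coe_mul, Subgroup.coe_mul, Subgroup.coe_inv]
    have h1 := congrArg (fun z : MonoidAlgebra ℂ G => z.coeff ((t : G) * x)) (hc t t.2).eq
    simp only [coeff_single_mul', coeff_mul_single', one_mul, mul_one, inv_mul_cancel_left] at h1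
    exact h1.symm
  · have h : inclA T (ofFun fun t : T => f.coeff t) = f := alg_ext fun x => by
      by_cases hx : x ∈ T
      · rw [inclA_coe_eq hx, coeff_ofFun]
      · rw [coeff_inclA_of_notMem _ hx, hsupp x hx]
    apply inclA_injective T
    rw [map_mul, h, hff]

theorem scoeff_of_coprime {M : Ideal AlgInt} [M.IsMaximal] [Fact p.Prime] (hpM : (p : AlgInt) ∈ M)
    (hG : ¬ p ∣ Nat.card G) {e : MonoidAlgebra ℂ G} (he : IsCentralElt e) (hee : e * e = e) :
    SCoeff M e := by
  rw [eq_blockIdem he hee]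
  intro g
  rw [coeff_blockIdem, blockCoeff_eq_sum]
  refine MemLocalRing.mul (memLocalRing_inv_natCast hpM hG) (MemLocalRing.sum _ fun χ _ => ?_)
  rw [Char.IsCharacter.conj_apply (Char.irr_isCharacter χ)]
  exact MemLocalRing.mul
    (memLocalRing_of_isIntegral (CharInt.isIntegral_char (Char.irr_isCharacter χ) _))
    (memLocalRing_of_isIntegral (CharInt.isIntegral_char (Char.irr_isCharacter χ) _))

theorem scoeff_aux {M : Ideal AlgInt} [M.IsMaximal] [hp : Fact p.Prime] (hpM : (p : AlgInt) ∈ M)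
    (k : ℕ) : ∀ (G : Type u) [Group G] [Finite G], Nat.card G = k → IsPSolvable p G →
      ∀ e : MonoidAlgebra ℂ G, IsCentralElt e → e * e = e → RegSupp p e → SCoeff M e := by
  induction k using Nat.strong_induction_on with
  | _ k ih => ?_
  intro G _ _ hk hs e he hee hreg
  haveI := Fintype.ofFinite G
  set N : Subgroup G := pPrimeCore p G with hNdef
  have hNp : (Nat.card N).Coprime p := PCore.coprime_card_pPrimeCore
  haveI := Fintype.ofFinite (IrrCharacter N)
  have hsum : e = ∑ θ : IrrCharacter N, e * inclA N (blockIdem {θ}) := by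
    rw [← Finset.mul_sum, ← map_sum, sum_blockIdem_singleton, map_one, mul_one]
  rw [hsum]
  refine SCoeff.sum _ fun θ _ => ?_
  set ε := inclA N (blockIdem {θ}) with hε
  set θg : G → IrrCharacter N := fun g =>
    BrauerPairs.compIrr (MulAut.conjNormal g⁻¹ : N ≃* N) θ with hθg
  have hconj : ∀ g, MonoidAlgebra.single g 1 * ε * MonoidAlgebra.single g⁻¹ 1 =
      inclA N (blockIdem {θg g}) := fun g => alg_ext fun x => by
    rw [coeff_mul_single', coeff_single_mul', one_mul, mul_one, inv_inv]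
    by_cases hx : x ∈ N
    · have hx' : g⁻¹ * (x * g) ∈ N := by
        simpa [mul_assoc] using (inferInstance : N.Normal).conj_mem x hx g⁻¹
      have e1 : (MulAut.conjNormal g⁻¹ : N ≃* N) ⟨x, hx⟩ = ⟨_, hx'⟩ := by
        ext
        simp [MulAut.conjNormal_apply, mul_assoc]
      rw [hε, inclA_coe_eq hx', inclA_coe_eq hx]
      simp only [coeff_blockIdem, blockCoeff, finsum_mem_singleton]
      simp only [hθg, BrauerPairs.compIrr_apply, e1, map_one]
    · rw [hε, coeff_inclA_of_notMem _ hx, coeff_inclA_of_notMem]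
      exact fun h => hx (by
        simpa [mul_assoc] using (inferInstance : N.Normal).conj_mem _ h g)
  have hεε : ε * ε = ε := by rw [hε, ← map_mul, blockIdem_mul_self]
  let T : Subgroup G :=
    { carrier := {g | Commute (MonoidAlgebra.single g 1) ε}
      one_mem' := by
        show Commute (MonoidAlgebra.single (1 : G) (1 : ℂ)) ε
        rw [← MonoidAlgebra.one_def]
        exact Commute.one_left _
      mul_mem' := fun {a b} ha hb => by
        show Commute (MonoidAlgebra.single (a * b) (1 : ℂ)) ε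
        rw [← mul_one (1 : ℂ), ← MonoidAlgebra.single_mul_single]
        exact Commute.mul_left ha hb
      inv_mem' := fun {a} ha => by
        show _ = _
        calc MonoidAlgebra.single a⁻¹ (1 : ℂ) * ε
            = MonoidAlgebra.single a⁻¹ 1 * (ε * MonoidAlgebra.single a 1) *
                MonoidAlgebra.single a⁻¹ 1 := by
              rw [mul_assoc, mul_assoc ε, MonoidAlgebra.single_mul_single, mul_inv_cancel, one_mul,
                ← MonoidAlgebra.one_def, mul_one]
          _ = ε * MonoidAlgebra.single a⁻¹ 1 := by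
              rw [← (show Commute (MonoidAlgebra.single a 1) ε from ha).eq, ← mul_assoc,
                MonoidAlgebra.single_mul_single, inv_mul_cancel, one_mul, ← MonoidAlgebra.one_def,
                one_mul] }
  have hmemT : ∀ g, θg g = θ → g ∈ T := fun g hg => by
    have h1 := hconj g
    rw [hg, ← hε] at h1
    show _ = _
    calc MonoidAlgebra.single g (1 : ℂ) * ε
        = MonoidAlgebra.single g 1 * ε * (MonoidAlgebra.single g⁻¹ 1 * MonoidAlgebra.single g 1) := by
          rw [MonoidAlgebra.single_mul_single, inv_mul_cancel, one_mul, ← MonoidAlgebra.one_def, mul_one]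
      _ = ε * MonoidAlgebra.single g 1 := by rw [← mul_assoc, h1]
  have horth : ∀ g, θg g ≠ θ →
      ε * (MonoidAlgebra.single g 1 * ε * MonoidAlgebra.single g⁻¹ 1) = 0 := fun g hg => by
    have h0 : ({θ} : Set (IrrCharacter N)) ∩ {θg g} = ∅ :=
      Set.singleton_inter_eq_empty.2 fun h => hg (Set.mem_singleton_iff.1 h).symm
    rw [hconj, hε, ← map_mul, blockIdem_mul, h0, blockIdem_empty, map_zero]
  set f := e * ε with hfdef
  have heε : Commute e ε := IsCentralElt.commute he ε
  have hff : f * f = f := by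
    rw [hfdef, mul_assoc, ← mul_assoc ε, ← heε.eq, mul_assoc e ε, hεε, ← mul_assoc, hee]
  have hfε : f * ε = f := by rw [hfdef, mul_assoc, hεε]
  have hεf : ε * f = f := by rw [hfdef, ← mul_assoc, ← heε.eq, mul_assoc, hεε]
  have hfreg : RegSupp p f := hreg.mul_inclA hNp _
  have hcT : ∀ t ∈ T, Commute (MonoidAlgebra.single t 1) f := fun t ht =>
    Commute.mul_right (IsCentralElt.commute he _).symm ht
  by_cases hall : ∀ g, θg g = θ
  · -- invariant
    have hθ : ∀ (g : G) (n n' : N), (n' : G) = g * n * g⁻¹ → θ.1 n' = θ.1 n := by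
      intro g n n' h
      have h1 : (θg g).1 n' = θ.1 n := by
        show θ.1 ((MulAut.conjNormal g⁻¹ : N ≃* N) n') = θ.1 n
        refine congrArg θ.1 (Subtype.ext ?_)
        rw [MulAut.conjNormal_apply, h]
        group
      rw [← h1, hall g]
    have hfc : IsCentralElt f := fun x g => by
      have h1 := congrArg (fun z : MonoidAlgebra ℂ G => z.coeff (g * x))
        (hcT g (hmemT g (hall g))).eq
      simp only [coeff_single_mul', coeff_mul_single', one_mul, mul_one, inv_mul_cancel_left] at h1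
      exact h1.symm
    have hsupp := supp_le_of_stable hs hNp PCore.pPrimeCore_quotient_self_eq_bot θ hθ hfc hff hfreg hfε
    obtain ⟨f₀, h0, hc0, hi0, -⟩ := exists_restrict hff hsupp fun t _ => (IsCentralElt.commute hfc _).symm
    rw [← h0]
    exact scoeff_inclA (scoeff_of_coprime hpM (hp.out.coprime_iff_not_dvd.1 hNp.symm) hc0 hi0)
  · push Not at hall
    obtain ⟨g₀, hg₀⟩ := hall
    have hsupp : ∀ x ∉ T, f.coeff x = 0 := by
      intro x hx
      have h1 : f.coeff x = (f * MonoidAlgebra.single x⁻¹ 1).coeff 1 := by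
        rw [coeff_mul_single', inv_inv, one_mul, mul_one]
      have hne : θg x⁻¹ ≠ θ := fun h => hx (by simpa using inv_mem (hmemT _ h))
      have h2 := horth x⁻¹ hne
      have h3 : ε * MonoidAlgebra.single x⁻¹ 1 * ε = 0 := by
        calc ε * MonoidAlgebra.single x⁻¹ 1 * ε
            = ε * (MonoidAlgebra.single x⁻¹ 1 * ε * MonoidAlgebra.single x⁻¹⁻¹ 1) *
                MonoidAlgebra.single x⁻¹ 1 := by
              simp only [mul_assoc, MonoidAlgebra.single_mul_single, inv_mul_cancel, one_mul,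
                ← MonoidAlgebra.one_def, mul_one]
          _ = 0 := by rw [h2, zero_mul]
      rw [h1]
      conv_lhs => rw [← hεf, mul_assoc, mul_coeff_one_comm]
      conv_lhs => rw [← hfε, mul_assoc f ε, mul_assoc f, h3, mul_zero]
      simp
    have hT : T ≠ ⊤ := fun h => by
      have hm : Commute (MonoidAlgebra.single g₀ (1 : ℂ)) ε := (h ▸ Subgroup.mem_top g₀ : g₀ ∈ T)
      have h1 := horth g₀ hg₀
      rw [hm.eq, mul_assoc ε, MonoidAlgebra.single_mul_single, mul_inv_cancel, one_mul,
        ← MonoidAlgebra.one_def, mul_one, hεε, hε, ← map_zero (inclA N)] at h1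
      exact blockIdem_singleton_ne_zero θ (inclA_injective N h1)
    have hlt : Nat.card T < k := by
      rw [← hk]
      exact lt_of_le_of_ne (Subgroup.card_le_card_group T) fun h => hT (Subgroup.eq_top_of_card_eq T h)
    obtain ⟨f₀, h0, hc0, hi0, hv0⟩ := exists_restrict hff hsupp hcT
    rw [← h0]
    exact scoeff_inclA (ih _ hlt T rfl (PCore.isPSolvable_subgroup hs T) f₀ hc0 hi0
      fun t ht => (isPRegular_coe_iff t).1 (hfreg _ (by rwa [hv0] at ht)))

/-- **Kiyota–Okuyama**: over a `p`-solvable group a set of characters with idempotent vanishing at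
the singular elements is a union of blocks. -/
theorem mem_of_sameBlock {M : Ideal AlgInt} [M.IsMaximal] [Fact p.Prime] (hpM : (p : AlgInt) ∈ M)
    (hs : IsPSolvable p G) {U : Set (IrrCharacter G)}
    (hU : ∀ x : G, ¬ IsPRegular p x → ∑ᶠ χ ∈ U, χ.1 1 * χ.1 x = 0) {χ ψ : IrrCharacter G}
    (hχ : χ ∈ U) (hψ : SameBlock M χ.1 ψ.1) : ψ ∈ U := by
  have hreg : RegSupp p (blockIdem U) := fun x hx => by
    by_contra h
    refine hx ?_
    haveI := Fintype.ofFinite (IrrCharacter G)
    rw [coeff_blockIdem, blockCoeff_eq_sum]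
    have h1 := hU x⁻¹ (fun h' => h' ((orderOf_inv x).symm ▸ not_not.1 h))
    rw [finsum_mem_eq_toFinset_sum] at h1
    simp only [Char.IsCharacter.conj_apply (Char.irr_isCharacter _)]
    rw [← mul_zero ((Nat.card G : ℂ)⁻¹), ← h1]
    congr 1
    exact Finset.sum_congr (by ext; simp) fun _ _ => rfl
  exact blockOf_subset_of_scoeff (scoeff_aux hpM _ G rfl hs _ (isCentralElt_blockIdem U)
    (blockIdem_mul_self U) hreg) hχ hψ

end Cfsg.Agent.KiyotaOkuyama
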